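import Groth.Agent.RatSlice.Fields
import Groth.Agent.DivModel.Model
import Groth.Agent.GrpSchLib.GaPts
import Groth.Prelude.Def_AlgGrp

/-!
The coaction on the function field of an action of a one-dimensional split group.
-/

universe u

open CategoryTheory Limits MonoidalCategory CartesianMonoidalCategory MonObj AlgebraicGeometry Polynomial

set_option linter.style.haveILetI false
set_option backward.isDefEq.respectTransparency false
set_option backward.isDefEq.respectTransparency.types false

namespace Groth.Agent.RatSlice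

noncomputable section

variable {K : Type u} [Field K]

/-- The spectrum of an algebra as an object over the field. -/
abbrev sp (K R : Type u) [Field K] [CommRing R] [Algebra K R] : Over (Spec (CommRingCat.of K)) :=
  Over.mk (Spec.map (CommRingCat.ofHom (algebraMap K R)))

/-- The morphism of an algebra map. -/
def spMap {A B : Type u} [CommRing A] [CommRing B] [Algebra K A] [Algebra K B] (f : A →ₐ[K] B) : sp K B ⟶ sp K A :=
  Over.homMk (Spec.map (CommRingCat.ofHom f.toRingHom)) (by
    show Spec.map _ ≫ Spec.map _ = Spec.map _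
    rw [← Spec.map_comp, ← CommRingCat.ofHom_comp]
    congr 2
    exact f.comp_algebraMap)

theorem spMap_comp {A B C : Type u} [CommRing A] [CommRing B] [CommRing C] [Algebra K A] [Algebra K B] [Algebra K C]
    (f : A →ₐ[K] B) (g : B →ₐ[K] C) : spMap (g.comp f) = spMap g ≫ spMap f := by
  ext1
  show Spec.map _ = Spec.map _ ≫ Spec.map _
  rw [← Spec.map_comp]; rfl

/-- Coordinates on the points of a group. -/
structure Coord (G : Over (Spec (CommRingCat.of K))) [GrpObj G] where
  e : ∀ (R : Type u) [CommRing R], R
  op : ∀ {R : Type u} [CommRing R], R → R → R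
  adm : ∀ {R : Type u} [CommRing R], R → Prop
  pt : ∀ {R : Type u} [CommRing R] [Algebra K R] (v : R), adm v → (sp K R ⟶ G)
  adm_map : ∀ {A B : Type u} [CommRing A] [CommRing B] (f : A →+* B) {v : A}, adm v → adm (f v)
  adm_op : ∀ {R : Type u} [CommRing R] {v w : R}, adm v → adm w → adm (op v w)
  adm_e : ∀ (R : Type u) [CommRing R], adm (e R)
  map_e : ∀ {A B : Type u} [CommRing A] [CommRing B] (f : A →+* B), f (e A) = e B
  map_op : ∀ {A B : Type u} [CommRing A] [CommRing B] (f : A →+* B) (v w : A), f (op v w) = op (f v) (f w)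
  pt_map : ∀ {A B : Type u} [CommRing A] [CommRing B] [Algebra K A] [Algebra K B] (f : A →ₐ[K] B) (v : A)
    (h : adm v), spMap f ≫ pt v h = pt (f v) (adm_map f.toRingHom h)
  pt_op : ∀ {R : Type u} [CommRing R] [Algebra K R] (v w : R) (h : adm v) (h' : adm w),
    pt v h * pt w h' = pt (op v w) (adm_op h h')
  pt_e : ∀ (R : Type u) [CommRing R] [Algebra K R], pt (e R) (adm_e R) = 1
  pt_surj : ∀ {R : Type u} [CommRing R] [Algebra K R] (x : sp K R ⟶ G), ∃ v h, pt v h = x

variable {G X : Over (Spec (CommRingCat.of K))} [GrpObj G]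

theorem act_one (a : AlgGrp.Action G X) {Z : Over (Spec (CommRingCat.of K))} (x : Z ⟶ X) :
    lift (1 : Z ⟶ G) x ≫ a.act = x := by
  have h1 : (1 : Z ⟶ G) = toUnit Z ≫ η[G] := Hom.one_def
  have e : lift (1 : Z ⟶ G) x = lift (toUnit Z) x ≫ (η[G] ▷ X) := by
    rw [h1, lift_whiskerRight]
  rw [e, Category.assoc, a.one_act, lift_leftUnitor_hom]

theorem act_mul (a : AlgGrp.Action G X) {Z : Over (Spec (CommRingCat.of K))} (g h : Z ⟶ G) (x : Z ⟶ X) :
    lift (g * h) x ≫ a.act = lift g (lift h x ≫ a.act) ≫ a.act := by
  have e : lift (g * h) x = lift (lift g h) x ≫ (μ[G] ▷ X) := by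
    rw [Hom.mul_def, lift_whiskerRight]
  rw [e, Category.assoc, a.mul_act, lift_lift_associator_hom_assoc, lift_whiskerLeft_assoc]

variable [IsIntegral X.left] [Algebra K X.left.functionField]
  (hK : CommRingCat.ofHom (algebraMap K X.left.functionField) = DivModel.σ X.hom (genericPoint X.left))

include hK

/-- The generic point. -/
def gen : sp K X.left.functionField ⟶ X :=
  Over.homMk (X.left.fromSpecStalk (genericPoint X.left)) (by
    show _ = Spec.map _
    rw [hK, DivModel.specMap_σ])

theorem gen_cancel {R : Type u} [CommRing R] [Algebra K R] {f g : X.left.functionField →ₐ[K] R}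
    (h : spMap f ≫ gen hK = spMap g ≫ gen hK) : f = g := by
  have h' := congrArg CommaMorphism.left h
  change Spec.map _ ≫ X.left.fromSpecStalk _ = Spec.map _ ≫ X.left.fromSpecStalk _ at h'
  rw [cancel_mono] at h'
  exact AlgHom.coe_ringHom_injective (congrArg CommRingCat.Hom.hom (Spec.map_injective h'))

theorem exists_gen_factor {R : Type u} [CommRing R] [IsLocalRing R] [Algebra K R] (x : sp K R ⟶ X)
    (hx : x.left (IsLocalRing.closedPoint R) = genericPoint X.left) :
    ∃ f : X.left.functionField →ₐ[K] R, spMap f ≫ gen hK = x := by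
  let c : Spec (CommRingCat.of R) ⟶ X.left := x.left
  have hx' : c (IsLocalRing.closedPoint (CommRingCat.of R)) = genericPoint X.left := hx
  let θ : X.left.functionField ⟶ CommRingCat.of R :=
    X.left.presheaf.stalkSpecializes (specializes_of_eq hx') ≫ Scheme.stalkClosedPointTo c
  have hθ : Spec.map θ ≫ X.left.fromSpecStalk (genericPoint X.left) = c := by
    rw [Spec.map_comp, Category.assoc, Scheme.SpecMap_stalkSpecializes_fromSpecStalk]
    exact Scheme.Spec_stalkClosedPointTo_fromSpecStalk c
  have hθK : DivModel.σ X.hom (genericPoint X.left) ≫ θ = CommRingCat.ofHom (algebraMap K R) := by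
    apply Spec.map_injective
    rw [Spec.map_comp, DivModel.specMap_σ, reassoc_of% hθ]
    exact Over.w x
  rw [← hK] at hθK
  refine ⟨⟨θ.hom, fun r => congr($(hθK).hom r)⟩, ?_⟩
  ext1
  exact hθ

variable (a : AlgGrp.Action G X) (C : Coord G)

theorem exists_coaction (hadm : ∀ (E : Type u) [Field E] (v : E), v ≠ 0 → C.adm v)
    (hadmA : ∀ (R : Type u) [CommRing R] (v : R), IsUnit v → C.adm v)
    (hunit : C.e X.left.functionField ≠ 0 ∨ ∀ (R : Type u) [CommRing R] (v : R), C.adm v)
    (w : (RatFunc X.left.functionField)[X])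
    (hw : algebraMap (RatFunc X.left.functionField)[X] (RatFunc (RatFunc X.left.functionField)) w =
      C.op (RatFunc.X : RatFunc (RatFunc X.left.functionField)) (RatFunc.C (RatFunc.X : RatFunc X.left.functionField)))
    (hwe : ∃ e : RatFunc X.left.functionField, w.eval e = (RatFunc.X : RatFunc X.left.functionField)) :
    ∃ φ : X.left.functionField →ₐ[K] RatFunc X.left.functionField,
      IsCoaction φ w ∧ HasValue φ (C.e X.left.functionField) ∧
      spMap φ ≫ gen hK = lift (C.pt (RatFunc.X : RatFunc X.left.functionField) (hadm (RatFunc X.left.functionField) _ RatFunc.X_ne_zero))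
        (spMap (IsScalarTower.toAlgHom K X.left.functionField (RatFunc X.left.functionField)) ≫ gen hK) ≫ a.act := by
  let L := X.left.functionField
  let gp := gen hK
  let e : L := C.e L
  let evL : L[X] →ₐ[L] L := Polynomial.aeval e
  haveI : (RingHom.ker evL.toRingHom).IsPrime := RingHom.ker_isPrime _
  let P : Ideal L[X] := RingHom.ker evL.toRingHom
  let A := Localization.AtPrime P
  have hP : ∀ q : L[X], q ∈ P.primeCompl ↔ q.eval e ≠ 0 := fun q => by
    show ¬ (evL q = 0) ↔ _
    rw [← Polynomial.coe_aeval_eq_eval]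
  let iA : A →ₐ[L[X]] RatFunc L := IsLocalization.liftAlgHom (M := P.primeCompl) (S := A) (f := Algebra.ofId L[X] (RatFunc L))
    fun q => Ne.isUnit (RatFunc.algebraMap_ne_zero fun h0 => (hP q.1).1 q.2 (by rw [h0, Polynomial.eval_zero]))
  let iK : A →ₐ[K] RatFunc L := iA.restrictScalars K
  let evA : A →ₐ[K] L :=
    IsLocalization.liftAlgHom (M := P.primeCompl) (S := A) (f := evL.restrictScalars K) fun q =>
      Ne.isUnit (by simpa [evL] using (hP q.1).1 q.2)
  have hevA : ∀ q : L[X], evA (algebraMap L[X] A q) = q.eval e := fun q => by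
    show IsLocalization.liftAlgHom _ _ = _
    rw [IsLocalization.liftAlgHom_apply, IsLocalization.lift_eq]
    simp [evL]
  have hiA : ∀ q : L[X], iK (algebraMap L[X] A q) = algebraMap L[X] (RatFunc L) q := fun q => iA.commutes q
  let XA : A := algebraMap L[X] A Polynomial.X
  have hXA : C.adm XA := by
    rcases hunit with h | h
    · exact hadmA _ _ (IsLocalization.map_units A (⟨Polynomial.X, (hP _).2 (by simpa using h)⟩ : P.primeCompl))
    · exact h _ _
  let incA : L →ₐ[K] A := IsScalarTower.toAlgHom K L A
  let y₀ : sp K A ⟶ X := lift (C.pt XA hXA) (spMap incA ≫ gp) ≫ a.act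
  -- its value at the unit
  have hev : spMap evA ≫ y₀ = gp := by
    have h1 : evA.comp incA = AlgHom.id K L := by
      refine AlgHom.ext fun l => ?_
      show evA (algebraMap L A l) = l
      rw [IsScalarTower.algebraMap_apply L L[X] A, hevA, Polynomial.algebraMap_apply, Polynomial.eval_C]
      rfl
    have h2 : spMap evA ≫ C.pt XA hXA = 1 := by
      rw [C.pt_map, ← C.pt_e L]
      congr 1
      rw [hevA, Polynomial.eval_X]
    show spMap evA ≫ lift _ _ ≫ a.act = gp
    rw [comp_lift_assoc, h2, ← Category.assoc, ← spMap_comp, h1, act_one]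
    ext1
    show Spec.map (CommRingCat.ofHom (RingHom.id L)) ≫ _ = _
    rw [CommRingCat.ofHom_id, Spec.map_id]
    exact Category.id_comp _
  haveI : IsLocalHom evA.toRingHom := by
    constructor
    intro x hx
    obtain ⟨q, s, rfl⟩ := IsLocalization.exists_mk'_eq P.primeCompl x
    rw [IsLocalization.AtPrime.isUnit_mk'_iff A P]
    refine (hP q).2 fun h0 => ?_
    have h1 := congrArg evA (IsLocalization.mk'_spec A q s)
    rw [map_mul, hevA, hevA, h0] at h1
    rcases mul_eq_zero.1 h1 with h2 | h2
    · exact hx.ne_zero h2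
    · exact (hP s.1).1 s.2 h2
  have hclosed : y₀.left (IsLocalRing.closedPoint A) = genericPoint X.left := by
    have h := congrArg (fun m : sp K L ⟶ X => m.left (IsLocalRing.closedPoint L)) hev
    dsimp only at h
    rw [Over.comp_left, Scheme.Hom.comp_apply] at h
    rw [show (spMap evA).left (IsLocalRing.closedPoint L) = IsLocalRing.closedPoint A from
      IsLocalRing.comap_closedPoint evA.toRingHom] at h
    exact h.trans Scheme.fromSpecStalk_closedPoint
  obtain ⟨φ₀, hφ₀⟩ := exists_gen_factor hK y₀ hclosed
  let φ : L →ₐ[K] RatFunc L := iK.comp φ₀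
  have hφ : spMap φ ≫ gp = lift (C.pt RatFunc.X (hadm _ _ RatFunc.X_ne_zero))
      (spMap (IsScalarTower.toAlgHom K L (RatFunc L)) ≫ gp) ≫ a.act := by
    rw [spMap_comp, Category.assoc, hφ₀]
    show spMap iK ≫ lift _ _ ≫ a.act = _
    rw [comp_lift_assoc, C.pt_map, ← Category.assoc, ← spMap_comp]
    have h1 : iK XA = RatFunc.X := by rw [hiA, RatFunc.algebraMap_X]
    have h2 : iK.comp incA = IsScalarTower.toAlgHom K L (RatFunc L) := AlgHom.ext fun l => by
      show iK (algebraMap L A l) = algebraMap L (RatFunc L) l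
      rw [IsScalarTower.algebraMap_apply L L[X] A, hiA, ← IsScalarTower.algebraMap_apply L L[X] (RatFunc L)]
    simp only [h1, h2]
  refine ⟨φ, ?_, ?_, hφ⟩
  · -- cocycle
    obtain ⟨e₁, he₁⟩ := hwe
    let M := RatFunc (RatFunc L)
    let σp : L[X] →ₐ[K] M :=
      { toRingHom := (algebraMap (RatFunc L)[X] M).comp (substPoly w)
        commutes' := fun r => by
          show algebraMap (RatFunc L)[X] M (substPoly w (algebraMap K L[X] r)) = _
          rw [Polynomial.algebraMap_apply, substPoly_apply, Polynomial.map_C, Polynomial.C_comp]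
          have h1 : RatFunc.C (algebraMap K L r) = algebraMap K (RatFunc L) r := by
            rw [← RatFunc.algebraMap_C, ← Polynomial.algebraMap_apply (R := K) (A := L)]
            exact (IsScalarTower.algebraMap_apply K L[X] (RatFunc L) r).symm
          rw [h1, ← Polynomial.algebraMap_apply (R := K) (A := RatFunc L)]
          exact (IsScalarTower.algebraMap_apply K (RatFunc L)[X] M r).symm }
    have hσi : Function.Injective σp := (RatFunc.algebraMap_injective _).comp (substPoly_injective e₁ he₁)
    let σ : RatFunc L →ₐ[K] M := RatFunc.liftAlgHom σp (nonZeroDivisors_le_comap_nonZeroDivisors_of_injective _ hσi)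
    have hσalg : ∀ p : L[X], σ (algebraMap L[X] (RatFunc L) p) = σp p := fun p => by
      show RatFunc.liftAlgHom _ _ _ = _
      rw [RatFunc.liftAlgHom_apply, RatFunc.num_algebraMap, RatFunc.denom_algebraMap, map_one, div_one]
    have hhat : ∀ p : L[X], hatHom φ (algebraMap L[X] (RatFunc L) p) =
        algebraMap (RatFunc L)[X] M (p.map φ.toRingHom) := fun p => by
      rw [hatHom_apply, RatFunc.num_algebraMap, RatFunc.denom_algebraMap, Polynomial.map_one, map_one, div_one]
    let inc : L →ₐ[K] RatFunc L := IsScalarTower.toAlgHom K L (RatFunc L)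
    have hinc : ∀ l : L, inc l = algebraMap L[X] (RatFunc L) (Polynomial.C l) := fun l => by
      show algebraMap L (RatFunc L) l = _
      rw [IsScalarTower.algebraMap_apply L L[X] (RatFunc L)]; rfl
    have hTadm : C.adm (RatFunc.X : RatFunc L) := hadm _ _ RatFunc.X_ne_zero
    let cM : RatFunc L →ₐ[K] M := IsScalarTower.toAlgHom K (RatFunc L) M
    have hcM : ∀ x, cM x = RatFunc.C x := fun x => by
      show algebraMap (RatFunc L) M x = _
      rw [RatFunc.algebraMap_eq_C]
    let gpM : sp K M ⟶ X := spMap (cM.comp inc) ≫ gp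
    have key : (hatHom φ).comp φ = σ.comp φ := by
      refine gen_cancel hK ?_
      rw [spMap_comp φ (hatHom φ), spMap_comp φ σ, Category.assoc, Category.assoc, hφ, comp_lift_assoc, comp_lift_assoc, C.pt_map, C.pt_map,
        ← Category.assoc, ← spMap_comp, ← Category.assoc (spMap σ), ← spMap_comp]
      have e1 : hatHom φ (RatFunc.X : RatFunc L) = (RatFunc.X : M) := by
        rw [← RatFunc.algebraMap_X, hhat, Polynomial.map_X, RatFunc.algebraMap_X]
      have e2 : (hatHom φ).comp inc = cM.comp φ := AlgHom.ext fun l => by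
        show hatHom φ (inc l) = cM (φ l)
        rw [hinc, hhat, Polynomial.map_C, RatFunc.algebraMap_C, hcM]
        rfl
      have e3 : σ (RatFunc.X : RatFunc L) = C.op (RatFunc.X : M) (RatFunc.C RatFunc.X) := by
        rw [← RatFunc.algebraMap_X, hσalg]
        show algebraMap _ M (substPoly w Polynomial.X) = _
        rw [substPoly_apply, Polynomial.map_X, Polynomial.X_comp]
        exact hw
      have e4 : σ.comp inc = cM.comp inc := AlgHom.ext fun l => by
        show σ (inc l) = cM (inc l)
        rw [hinc, hσalg, hcM]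
        show algebraMap _ M (substPoly w (Polynomial.C l)) = _
        rw [substPoly_apply, Polynomial.map_C, Polynomial.C_comp, RatFunc.algebraMap_C, RatFunc.algebraMap_C]
      simp only [e1, e3, e4]
      rw [e2, spMap_comp φ cM, Category.assoc, hφ, comp_lift_assoc, C.pt_map, ← Category.assoc, ← spMap_comp]
      rw [← act_mul, C.pt_op]
      simp only [hcM]
      rw [show σ.comp (IsScalarTower.toAlgHom K L (RatFunc L)) = cM.comp (IsScalarTower.toAlgHom K L (RatFunc L)) from e4]
    intro f
    have h := congr($key f)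
    rw [AlgHom.comp_apply, AlgHom.comp_apply, hatHom_apply] at h
    refine h.trans ?_
    show σ (φ f) = _
    simp only [σ, RatFunc.liftAlgHom_apply]
    rfl
  · -- value at the unit
    intro f
    obtain ⟨q, s, hqs⟩ := IsLocalization.exists_mk'_eq P.primeCompl (φ₀ f)
    have h1 := IsLocalization.mk'_spec A q s
    rw [hqs] at h1
    have h2 := congrArg iK h1
    rw [map_mul, hiA, hiA] at h2
    change φ f * _ = _ at h2
    have hs0 : (s : L[X]).eval e ≠ 0 := (hP _).1 s.2
    have hsne : (s : L[X]) ≠ 0 := fun h0 => hs0 (by rw [h0, Polynomial.eval_zero])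
    have h3 : (φ f).num * (s : L[X]) = q * (φ f).denom := by
      refine RatFunc.algebraMap_injective L ?_
      rw [map_mul, map_mul, ← h2, mul_right_comm]
      congr 1
      rw [eq_comm, ← eq_div_iff (RatFunc.algebraMap_ne_zero (RatFunc.denom_ne_zero _))]
      exact (RatFunc.num_div_denom _).symm
    have hdvd : (φ f).denom ∣ (s : L[X]) :=
      (RatFunc.isCoprime_num_denom (φ f)).symm.dvd_of_dvd_mul_left ⟨q, by rw [h3, mul_comm]⟩
    have hd0 : (φ f).denom.eval e ≠ 0 := fun h0 => hs0 (Polynomial.eval_eq_zero_of_dvd_of_eval_eq_zero hdvd h0)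
    refine ⟨hd0, ?_⟩
    have h4 : evA (φ₀ f) = f := by
      have h5 : evA.comp φ₀ = AlgHom.id K L := gen_cancel hK (by
        rw [spMap_comp, Category.assoc, hφ₀, hev]
        ext1
        show _ = Spec.map (CommRingCat.ofHom (RingHom.id L)) ≫ _
        rw [CommRingCat.ofHom_id, Spec.map_id]
        exact (Category.id_comp _).symm)
      exact congr($h5 f)
    have h6 := congrArg evA h1
    rw [map_mul, hevA, hevA, h4] at h6
    have h7 := congrArg (Polynomial.eval e) h3
    rw [Polynomial.eval_mul, Polynomial.eval_mul, ← h6] at h7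
    refine mul_right_cancel₀ hs0 (h7.trans ?_)
    ring

end

end Groth.Agent.RatSlice
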