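import Groth.Agent.RatSlice.Fields
import Mathlib.RingTheory.AlgebraicIndependent.Basic
import Mathlib.RingTheory.MvPolynomial.Tower

/-!
A finitely generated field that is a simple transcendental extension has a product model.
-/

universe u

open Polynomial

namespace Groth.Agent.RatSlice

noncomputable section

theorem aeval_injective {K L : Type u} [Field K] [Field L] [Algebra K L] (F : IntermediateField K L) (B0 : Subalgebra K L)
    (h : B0 ≤ F.toSubalgebra) (t : L) (ht : Transcendental F t) :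
    Function.Injective ((MvPolynomial.aeval (fun _ : ULift.{u} (Fin 1) => t)) :
      MvPolynomial (ULift.{u} (Fin 1)) B0 →ₐ[B0] L) := by
  refine algebraicIndependent_iff_injective_aeval.1 ((algebraicIndependent_unique_type_iff).2 ?_)
  rw [transcendental_iff]
  intro p hp
  by_contra hne
  refine ht ⟨p.map (Subalgebra.inclusion h).toRingHom, ?_, ?_⟩
  · exact (Polynomial.map_ne_zero_iff (Subalgebra.inclusion_injective h)).2 hne
  · rw [Polynomial.aeval_def, Polynomial.eval₂_map]
    exact hp

theorem exists_model {K L : Type u} [Field K] [Field L] [Algebra K L] (hfg : ∃ S : Finset L, IntermediateField.adjoin K (S : Set L) = ⊤)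
    (hsl : IsSlice (K := K) L) :
    ∃ B0 : Subalgebra K L, Algebra.FiniteType K B0 ∧
      Nonempty (FractionRing (MvPolynomial (ULift.{u} (Fin 1)) B0) ≃ₐ[K] L) := by
  classical
  obtain ⟨F, t, ht, htop⟩ := hsl
  obtain ⟨gs, hgs⟩ := hfg
  have hmemt : ∀ b : L, ∃ r s : F[X], b = aeval t r / aeval t s := fun b =>
    (IntermediateField.mem_adjoin_simple_iff F b).1 (by rw [htop]; trivial)
  choose r s hrs using hmemt
  let cs : Finset L := gs.biUnion fun b => ((r b).coeffs ∪ (s b).coeffs).image (fun x : F => (x : L))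
  let B0 : Subalgebra K L := Algebra.adjoin K (cs : Set L)
  haveI : Algebra.FiniteType K B0 := (Subalgebra.fg_iff_finiteType _).1 ⟨cs, rfl⟩
  have hB0F : B0 ≤ F.toSubalgebra := Algebra.adjoin_le fun x hx => by
    simp only [cs, Finset.coe_biUnion, Set.mem_iUnion, Finset.coe_image, Set.mem_image] at hx
    obtain ⟨_, _, y, _, rfl⟩ := hx
    exact y.2
  let ψ : MvPolynomial (ULift.{u} (Fin 1)) B0 →ₐ[K] L :=
    ((MvPolynomial.aeval (fun _ => t)) : MvPolynomial (ULift.{u} (Fin 1)) B0 →ₐ[B0] L).restrictScalars K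
  have hψ : Function.Injective ψ := aeval_injective F B0 hB0F t ht
  let ψ' : FractionRing (MvPolynomial (ULift.{u} (Fin 1)) B0) →ₐ[K] L := IsFractionRing.liftAlgHom hψ
  refine ⟨B0, inferInstance, ⟨AlgEquiv.ofBijective ψ' ⟨ψ'.toRingHom.injective, ?_⟩⟩⟩
  let M : IntermediateField K L := ψ'.fieldRange
  have hq : ∀ q, ψ q ∈ M := fun q => ⟨algebraMap _ _ q, IsFractionRing.lift_algebraMap hψ q⟩
  have hB0M : ∀ c ∈ B0, c ∈ M := fun c hc => by
    have := hq (MvPolynomial.C ⟨c, hc⟩)
    simpa [ψ] using this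
  have htM : t ∈ M := by simpa [ψ] using hq (MvPolynomial.X ⟨0⟩)
  have hpoly : ∀ p : F[X], (∀ i, ((p.coeff i : F) : L) ∈ M) → aeval t p ∈ M := fun p hp => by
    rw [Polynomial.aeval_eq_sum_range]
    refine M.sum_mem fun i _ => ?_
    rw [Algebra.smul_def]
    exact M.mul_mem (hp i) (pow_mem htM i)
  have hgsM : IntermediateField.adjoin K (gs : Set L) ≤ M := IntermediateField.adjoin_le_iff.2 fun b hb => by
    have hc : ∀ (p : F[X]), p.coeffs ⊆ (r b).coeffs ∪ (s b).coeffs → ∀ i, ((p.coeff i : F) : L) ∈ M := fun p hp i => by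
      by_cases h0 : p.coeff i = 0
      · rw [h0, ZeroMemClass.coe_zero]; exact M.zero_mem
      · refine hB0M _ (Algebra.subset_adjoin ?_)
        exact Finset.mem_biUnion.2 ⟨b, hb, Finset.mem_image.2 ⟨_, hp (Polynomial.coeff_mem_coeffs h0), rfl⟩⟩
    rw [SetLike.mem_coe, hrs b]
    exact M.div_mem (hpoly _ (hc _ Finset.subset_union_left)) (hpoly _ (hc _ Finset.subset_union_right))
  intro l
  exact hgsM (by rw [hgs]; trivial)

theorem exists_model' {K L : Type u} [Field K] [Field L] [Algebra K L]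
    (hfg : ∃ S : Finset L, IntermediateField.adjoin K (S : Set L) = ⊤) (hsl : IsSlice (K := K) L) :
    ∃ (B : Type u) (_ : CommRing B) (_ : IsDomain B) (_ : Algebra K B) (_ : Algebra.FiniteType K B),
      Algebra.FiniteType K (MvPolynomial (ULift.{u} (Fin 1)) B) ∧
      Nonempty (FractionRing (MvPolynomial (ULift.{u} (Fin 1)) B) ≃ₐ[K] L) := by
  obtain ⟨B0, hB0, he⟩ := exists_model hfg hsl
  exact ⟨B0, inferInstance, inferInstance, inferInstance, hB0,
    Algebra.FiniteType.trans (S := B0) hB0 inferInstance, he⟩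

end

end Groth.Agent.RatSlice
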