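import Mathlib.FieldTheory.RatFunc.Basic
import Mathlib.FieldTheory.RatFunc.AsPolynomial
import Mathlib.Algebra.Polynomial.Taylor
import Mathlib.FieldTheory.IntermediateField.Adjoin.Basic
import Mathlib.RingTheory.Algebraic.Basic
import Mathlib.RingTheory.Int.Basic
import Mathlib.GroupTheory.Archimedean

/-!
A field with a one-parameter rational coaction is purely transcendental of degree one over an intermediate field.
-/

universe u

open Polynomial

set_option linter.style.haveILetI false

namespace Groth.Agent.RatSlice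

noncomputable section

variable {K L : Type u} [Field K] [Field L] [Algebra K L]

/-- Constants of the outer variable. -/
abbrev inn : RatFunc L →+* RatFunc (RatFunc L) := RatFunc.C

/-- The coaction applied to coefficients, keeping the variable. -/
def hatHom (φ : L →ₐ[K] RatFunc L) : RatFunc L →ₐ[K] RatFunc (RatFunc L) :=
  RatFunc.liftAlgHom ((IsScalarTower.toAlgHom K (RatFunc L)[X] (RatFunc (RatFunc L))).comp (Polynomial.mapAlgHom φ))
    (nonZeroDivisors_le_comap_nonZeroDivisors_of_injective _
      ((RatFunc.algebraMap_injective _).comp (Polynomial.map_injective _ φ.toRingHom.injective)))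

theorem hatHom_apply (φ : L →ₐ[K] RatFunc L) (x : RatFunc L) :
    hatHom φ x = algebraMap (RatFunc L)[X] _ (x.num.map φ.toRingHom) / algebraMap _ _ (x.denom.map φ.toRingHom) :=
  by rw [hatHom, RatFunc.liftAlgHom_apply]; rfl

/-- Substitution of the variable by a polynomial in the outer variable. -/
def substPoly (w : (RatFunc L)[X]) : L[X] →+* (RatFunc L)[X] :=
  (Polynomial.compRingHom w).comp (Polynomial.mapRingHom (RatFunc.C : L →+* RatFunc L))

theorem substPoly_apply (w : (RatFunc L)[X]) (p : L[X]) : substPoly w p = (p.map RatFunc.C).comp w := rfl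

theorem substPoly_injective {w : (RatFunc L)[X]} (e : RatFunc L) (he : w.eval e = RatFunc.X) :
    Function.Injective (substPoly w) := by
  refine (injective_iff_map_eq_zero _).2 fun p hp => ?_
  have h := congrArg (Polynomial.eval e) hp
  rw [substPoly_apply, Polynomial.eval_comp, he, Polynomial.eval_zero, Polynomial.eval_map] at h
  have h2 : (p.eval₂ (RatFunc.C : L →+* RatFunc L) RatFunc.X) = algebraMap L[X] (RatFunc L) p := by
    rw [← RatFunc.algebraMap_X, ← RatFunc.algebraMap_comp_C, ← Polynomial.hom_eval₂, Polynomial.eval₂_C_X]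
  rw [h2] at h
  exact RatFunc.algebraMap_injective L (h.trans (map_zero _).symm)

/-- The cocycle condition, in cleared form. -/
def IsCoaction (φ : L →ₐ[K] RatFunc L) (w : (RatFunc L)[X]) : Prop :=
  ∀ f : L, algebraMap (RatFunc L)[X] (RatFunc (RatFunc L)) ((φ f).num.map φ.toRingHom) /
      algebraMap _ _ ((φ f).denom.map φ.toRingHom) =
    algebraMap (RatFunc L)[X] (RatFunc (RatFunc L)) (substPoly w (φ f).num) / algebraMap _ _ (substPoly w (φ f).denom)

/-- The value at the unit is the identity. -/
def HasValue (φ : L →ₐ[K] RatFunc L) (e : L) : Prop :=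
  ∀ f : L, (φ f).denom.eval e ≠ 0 ∧ (φ f).num.eval e = f * (φ f).denom.eval e

/-- Reduced representations with monic denominators are unique. -/
theorem eq_of_div_eq {E : Type u} [Field E] {p₁ q₁ p₂ q₂ : E[X]} (h₁ : q₁.Monic) (h₂ : q₂.Monic)
    (hc₁ : IsCoprime p₁ q₁) (hc₂ : IsCoprime p₂ q₂)
    (h : algebraMap E[X] (RatFunc E) p₁ / algebraMap _ _ q₁ = algebraMap E[X] (RatFunc E) p₂ / algebraMap _ _ q₂) :
    p₁ = p₂ ∧ q₁ = q₂ := by
  rw [div_eq_div_iff (RatFunc.algebraMap_ne_zero h₁.ne_zero) (RatFunc.algebraMap_ne_zero h₂.ne_zero),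
    ← map_mul, ← map_mul] at h
  have h' : p₁ * q₂ = p₂ * q₁ := RatFunc.algebraMap_injective E h
  have d₁ : q₁ ∣ q₂ := hc₁.symm.dvd_of_dvd_mul_left ⟨p₂, by rw [h', mul_comm]⟩
  have d₂ : q₂ ∣ q₁ := hc₂.symm.dvd_of_dvd_mul_left ⟨p₁, by rw [← h', mul_comm]⟩
  have hq : q₁ = q₂ := Polynomial.eq_of_monic_of_associated h₁ h₂ (associated_of_dvd_dvd d₁ d₂)
  subst hq
  exact ⟨mul_right_cancel₀ h₁.ne_zero h', rfl⟩

theorem transcendental_of_image (φ : L →ₐ[K] RatFunc L) (F : IntermediateField K L)
    (hF : ∀ x ∈ F, φ x = RatFunc.C x) {t : L} (ht : Transcendental L (φ t)) : Transcendental F t := by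
  intro halg
  obtain ⟨p, hp0, hp⟩ := halg
  refine ht ⟨p.map F.val.toRingHom, Polynomial.map_ne_zero hp0, ?_⟩
  have h := congrArg φ.toRingHom hp
  rw [Polynomial.aeval_def, Polynomial.hom_eval₂, map_zero] at h
  refine Eq.trans ?_ h
  rw [Polynomial.aeval_def, Polynomial.eval₂_map]
  congr 1
  refine RingHom.ext fun x => ?_
  show algebraMap L (RatFunc L) (x : L) = φ.toRingHom (x : L)
  exact (hF x x.2).symm

/-- The fixed field. -/
def fixedField (φ : L →ₐ[K] RatFunc L) : IntermediateField K L where
  carrier := {f | φ f = RatFunc.C f}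
  mul_mem' {a b} (ha : φ a = _) (hb : φ b = _) := show φ (a * b) = _ by rw [map_mul, map_mul, ha, hb]
  one_mem' := by simp
  add_mem' {a b} (ha : φ a = _) (hb : φ b = _) := show φ (a + b) = _ by rw [map_add, map_add, ha, hb]
  zero_mem' := by simp
  algebraMap_mem' r := by
    show φ (algebraMap K L r) = RatFunc.C (algebraMap K L r)
    rw [φ.commutes, ← RatFunc.algebraMap_C, ← Polynomial.algebraMap_apply (R := K) (A := L)]
    exact IsScalarTower.algebraMap_apply K L[X] (RatFunc L) r
  inv_mem' a (ha : φ a = _) := show φ a⁻¹ = _ by rw [map_inv₀, map_inv₀, ha]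

/-- Conclusion: `L = F(t)` with `t` transcendental over `F`. -/
def IsSlice (L : Type u) [Field L] [Algebra K L] : Prop :=
  ∃ (F : IntermediateField K L) (t : L), Transcendental F t ∧ IntermediateField.adjoin F {t} = ⊤

theorem exists_slice_mul (φ : L →ₐ[K] RatFunc L)
    (hco : IsCoaction φ (Polynomial.C RatFunc.X * Polynomial.X)) (hv : HasValue φ 1)
    (hnt : ∃ f : L, φ f ≠ RatFunc.C f) : IsSlice (K := K) L := by
  classical
  let T : RatFunc L := RatFunc.X
  have hT0 : T ≠ 0 := RatFunc.X_ne_zero
  let F := fixedField φ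
  let SI : ℤ → L → Prop := fun w s => φ s = RatFunc.C s * T ^ w
  -- the coefficients of numerators and denominators are semi-invariant
  have hcoef : ∀ f : L, ∃ m : ℕ, ∀ i : ℕ,
      SI ((i : ℤ) - m) ((φ f).num.coeff i) ∧ SI ((i : ℤ) - m) ((φ f).denom.coeff i) := by
    intro f
    let w : (RatFunc L)[X] := Polynomial.C T * Polynomial.X
    have hco' := hco f
    set p := (φ f).num
    set q := (φ f).denom
    have hq : q.Monic := RatFunc.monic_denom _
    let c : RatFunc L := (T ^ q.natDegree)⁻¹
    have hc : c ≠ 0 := inv_ne_zero (pow_ne_zero _ hT0)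
    have hwq : ∀ (r : L[X]) (i : ℕ), (Polynomial.C c * substPoly w r).coeff i = RatFunc.C (r.coeff i) * T ^ ((i : ℤ) - q.natDegree) := by
      intro r i
      rw [Polynomial.coeff_C_mul, substPoly_apply, Polynomial.comp_C_mul_X_coeff, Polynomial.coeff_map]
      rw [zpow_sub₀ hT0, zpow_natCast, zpow_natCast, div_eq_mul_inv]
      ring
    have hmon : (Polynomial.C c * substPoly w q).Monic := by
      refine Polynomial.monic_of_natDegree_le_of_coeff_eq_one q.natDegree ?_ ?_
      · refine Polynomial.natDegree_le_iff_coeff_eq_zero.2 fun i hi => ?_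
        rw [hwq, Polynomial.coeff_eq_zero_of_natDegree_lt hi, map_zero, zero_mul]
      · rw [hwq, hq.coeff_natDegree, map_one, sub_self, zpow_zero, one_mul]
    have hcop : IsCoprime (Polynomial.C c * substPoly w p) (Polynomial.C c * substPoly w q) := by
      have hu : IsUnit (Polynomial.C c) := Polynomial.isUnit_C.2 (Ne.isUnit hc)
      exact (isCoprime_mul_unit_left hu _ _).2 ((RatFunc.isCoprime_num_denom (φ f)).map (substPoly w))
    obtain ⟨h1, h2⟩ := eq_of_div_eq (hq.map φ.toRingHom) hmon
      ((RatFunc.isCoprime_num_denom (φ f)).map (Polynomial.mapRingHom φ.toRingHom)) hcop (by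
        rw [map_mul, map_mul, mul_div_mul_left _ _ (RatFunc.algebraMap_ne_zero (Polynomial.C_ne_zero.2 hc))]
        exact hco')
    refine ⟨q.natDegree, fun i => ⟨?_, ?_⟩⟩
    · have := congrArg (fun r : (RatFunc L)[X] => r.coeff i) h1
      simp only [Polynomial.coe_mapRingHom, Polynomial.coeff_map, hwq] at this
      exact this
    · have := congrArg (fun r : (RatFunc L)[X] => r.coeff i) h2
      simp only [Polynomial.coe_mapRingHom, Polynomial.coeff_map, hwq] at this
      exact this
  have hgen : ∀ f : L, f = (φ f).num.eval 1 / (φ f).denom.eval 1 := fun f => by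
    rw [(hv f).2, mul_div_assoc, div_self (hv f).1, mul_one]
  have hmem : ∀ (M : IntermediateField K L) (hM : ∀ w s, SI w s → s ∈ M) (f : L), f ∈ M := by
    intro M hM f
    obtain ⟨m, hm⟩ := hcoef f
    rw [hgen f]
    refine M.div_mem ?_ ?_ <;>
      rw [Polynomial.eval_eq_sum, Polynomial.sum_def] <;>
      refine M.sum_mem fun i _ => ?_ <;> rw [one_pow, mul_one]
    exacts [hM _ _ (hm i).1, hM _ _ (hm i).2]
  let W : AddSubgroup ℤ :=
    { carrier := {w | ∃ s : L, s ≠ 0 ∧ SI w s}
      zero_mem' := ⟨1, one_ne_zero, by simp [SI]⟩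
      add_mem' := by
        rintro a b ⟨s, hs, hs'⟩ ⟨s', hs1, hs1'⟩
        refine ⟨s * s', mul_ne_zero hs hs1, ?_⟩
        show φ _ = _
        rw [map_mul, hs', hs1', map_mul, zpow_add₀ hT0]
        ring
      neg_mem' := by
        rintro a ⟨s, hs, hs'⟩
        refine ⟨s⁻¹, inv_ne_zero hs, ?_⟩
        show φ _ = _
        rw [map_inv₀, hs', mul_inv, map_inv₀, zpow_neg] }
  obtain ⟨d, hd⟩ := Int.subgroup_cyclic W
  have hdiv : ∀ w ∈ W, d ∣ w := fun w hw => by
    rw [hd, AddSubgroup.mem_closure_singleton] at hw
    obtain ⟨n, rfl⟩ := hw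
    exact ⟨n, by rw [smul_eq_mul, mul_comm]⟩
  have hd0 : d ≠ 0 := by
    rintro rfl
    obtain ⟨f, hf⟩ := hnt
    refine hf (hmem F (fun w s hs => ?_) f)
    show φ s = RatFunc.C s
    by_cases h0 : s = 0
    · simp [h0]
    · have hw : w = 0 := by simpa using hdiv w ⟨s, h0, hs⟩
      subst hw
      simpa [SI] using hs
  obtain ⟨t, ht0, ht⟩ : d ∈ W := by rw [hd]; exact AddSubgroup.subset_closure rfl
  refine ⟨F, t, transcendental_of_image φ F (fun x hx => hx) ?_, ?_⟩
  · intro halg
    change φ t = RatFunc.C t * T ^ d at ht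
    rw [ht] at halg
    have hCt : IsAlgebraic L (RatFunc.C t⁻¹ : RatFunc L) := by
      rw [← RatFunc.algebraMap_eq_C]; exact isAlgebraic_algebraMap _
    have h1 : IsAlgebraic L (T ^ d) := by
      have := hCt.mul halg
      rwa [← mul_assoc, ← map_mul, inv_mul_cancel₀ ht0, map_one, one_mul] at this
    have h2 : IsAlgebraic L (T ^ d.natAbs) := by
      rcases Int.natAbs_eq d with h | h
      · rwa [h, zpow_natCast] at h1
      · rw [h, zpow_neg, zpow_natCast] at h1
        exact inv_inv (T ^ d.natAbs) ▸ h1.inv
    exact RatFunc.transcendental_X (h2.of_pow (Int.natAbs_pos.2 hd0))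
  · refine eq_top_iff.2 fun f _ => ?_
    refine hmem ((IntermediateField.adjoin F {t}).restrictScalars K) (fun w s hs => ?_) f
    show s ∈ IntermediateField.adjoin F {t}
    by_cases h0 : s = 0
    · rw [h0]; exact zero_mem _
    obtain ⟨k, rfl⟩ := hdiv w ⟨s, h0, hs⟩
    have hsF : s / t ^ k ∈ F := by
      show φ _ = RatFunc.C _
      rw [map_div₀, map_zpow₀, hs, ht, mul_zpow, ← zpow_mul, map_div₀, map_zpow₀,
        mul_div_mul_right _ _ (zpow_ne_zero _ hT0)]
    have : s = s / t ^ k * t ^ k := (div_mul_cancel₀ _ (zpow_ne_zero _ ht0)).symm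
    rw [this]
    exact mul_mem ((IntermediateField.adjoin F {t}).algebraMap_mem ⟨_, hsF⟩)
      (zpow_mem (IntermediateField.mem_adjoin_simple_self F t) k)

/-- Elements with polynomial image. -/
def IsPoly (φ : L →ₐ[K] RatFunc L) (g : L) (P : L[X]) : Prop := φ g = algebraMap L[X] (RatFunc L) P

theorem hasseDeriv_map_C (p : L[X]) (i : ℕ) :
    Polynomial.hasseDeriv i (p.map (RatFunc.C : L →+* RatFunc L)) = (Polynomial.hasseDeriv i p).map RatFunc.C := by
  ext j
  simp [Polynomial.hasseDeriv_coeff]

theorem substPoly_add_coeff (p : L[X]) (i : ℕ) :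
    (substPoly (Polynomial.X + Polynomial.C (RatFunc.X : RatFunc L)) p).coeff i =
      algebraMap L[X] (RatFunc L) (Polynomial.hasseDeriv i p) := by
  rw [substPoly_apply, ← Polynomial.taylor_apply, Polynomial.taylor_coeff, hasseDeriv_map_C,
    Polynomial.eval_map, ← RatFunc.algebraMap_X, ← RatFunc.algebraMap_comp_C, ← Polynomial.hom_eval₂,
    Polynomial.eval₂_C_X]

theorem exists_slice_add (φ : L →ₐ[K] RatFunc L)
    (hco : IsCoaction φ (Polynomial.X + Polynomial.C RatFunc.X)) (hv : HasValue φ 0)
    (hnt : ∃ f : L, φ f ≠ RatFunc.C f) : IsSlice (K := K) L := by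
  classical
  let T : RatFunc L := RatFunc.X
  let w : (RatFunc L)[X] := Polynomial.X + Polynomial.C T
  let F := fixedField φ
  have hw : ∀ r : L[X], r.Monic → (substPoly w r).Monic := fun r hr =>
    (hr.map _).comp (Polynomial.monic_X_add_C T) (by rw [Polynomial.natDegree_X_add_C]; exact one_ne_zero)
  have hcoef : ∀ (f : L) (i : ℕ), IsPoly φ ((φ f).num.coeff i) (Polynomial.hasseDeriv i (φ f).num) ∧
      IsPoly φ ((φ f).denom.coeff i) (Polynomial.hasseDeriv i (φ f).denom) := by
    intro f i
    obtain ⟨h1, h2⟩ := eq_of_div_eq ((RatFunc.monic_denom (φ f)).map φ.toRingHom) (hw _ (RatFunc.monic_denom _))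
      ((RatFunc.isCoprime_num_denom (φ f)).map (Polynomial.mapRingHom φ.toRingHom))
      ((RatFunc.isCoprime_num_denom (φ f)).map (substPoly w)) (hco f)
    constructor
    · have := congrArg (fun r : (RatFunc L)[X] => r.coeff i) h1
      simp only [Polynomial.coe_mapRingHom, Polynomial.coeff_map, w, T, substPoly_add_coeff] at this
      exact this
    · have := congrArg (fun r : (RatFunc L)[X] => r.coeff i) h2
      simp only [Polynomial.coe_mapRingHom, Polynomial.coeff_map, w, T, substPoly_add_coeff] at this
      exact this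
  have hgen : ∀ f : L, f = (φ f).num.coeff 0 / (φ f).denom.coeff 0 := fun f => by
    rw [Polynomial.coeff_zero_eq_eval_zero, Polynomial.coeff_zero_eq_eval_zero, (hv f).2, mul_div_assoc,
      div_self (hv f).1, mul_one]
  have hmem : ∀ (M : IntermediateField K L) (hM : ∀ g P, IsPoly φ g P → g ∈ M) (f : L), f ∈ M := by
    intro M hM f
    rw [hgen f]
    exact M.div_mem (hM _ _ (hcoef f 0).1) (hM _ _ (hcoef f 0).2)
  have hinj : ∀ {g : L} {P Q : L[X]}, IsPoly φ g P → IsPoly φ g Q → P = Q := fun h h' =>
    RatFunc.algebraMap_injective L (h.symm.trans h')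
  have hP0 : ∀ {g : L} {P : L[X]}, IsPoly φ g P → P.coeff 0 = g := by
    intro g P h
    have h' := hv g
    rw [show φ g = algebraMap L[X] (RatFunc L) P from h, RatFunc.num_algebraMap, RatFunc.denom_algebraMap] at h'
    simpa [Polynomial.coeff_zero_eq_eval_zero] using h'.2
  have hfix : ∀ {g : L} {P : L[X]}, IsPoly φ g P → P.natDegree = 0 → g ∈ F := by
    intro g P h hd
    show φ g = RatFunc.C g
    rw [show φ g = algebraMap L[X] (RatFunc L) P from h, Polynomial.eq_C_of_natDegree_eq_zero hd, hP0 h,
      RatFunc.algebraMap_C]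
  have hpcoef : ∀ {g : L} {P : L[X]}, IsPoly φ g P → ∀ i, IsPoly φ (P.coeff i) (Polynomial.hasseDeriv i P) := by
    intro g P h i
    have h' := (hcoef g i).1
    rwa [show φ g = algebraMap L[X] (RatFunc L) P from h, RatFunc.num_algebraMap] at h'
  have hcomp : ∀ {g : L} {P : L[X]}, IsPoly φ g P → P.map φ.toRingHom = substPoly w P := by
    intro g P h
    ext i
    rw [Polynomial.coeff_map, substPoly_add_coeff]
    exact hpcoef h i
  have hex : ∃ n, 0 < n ∧ ∃ g P, IsPoly φ g P ∧ P.natDegree = n := by
    by_contra hno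
    obtain ⟨f, hf⟩ := hnt
    refine hf (hmem F (fun g P hg => hfix hg ?_) f)
    by_contra hd
    exact hno ⟨_, Nat.pos_of_ne_zero hd, g, P, hg, rfl⟩
  let d := Nat.find hex
  obtain ⟨hd0, s₀, P₀, hs₀, hP₀d⟩ : 0 < d ∧ ∃ g P, IsPoly φ g P ∧ P.natDegree = d := Nat.find_spec hex
  have hlow : ∀ {g : L} {P : L[X]}, IsPoly φ g P → P.natDegree < d → g ∈ F := by
    intro g P h hd
    refine hfix h (Nat.eq_zero_of_not_pos fun hp => ?_)
    exact Nat.find_min hex hd ⟨hp, g, P, h, rfl⟩
  have hcinv : ∀ i, 0 < i → P₀.coeff i ∈ F := fun i hi =>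
    hlow (hpcoef hs₀ i) (lt_of_le_of_lt (Polynomial.natDegree_hasseDeriv_le P₀ i) (by omega))
  let a := P₀.coeff d
  have ha0 : a ≠ 0 := by
    show P₀.coeff d ≠ 0
    rw [← hP₀d]
    exact Polynomial.leadingCoeff_ne_zero.2 (Polynomial.ne_zero_of_natDegree_gt (n := 0) (by omega))
  have haF : φ a⁻¹ = RatFunc.C a⁻¹ := F.inv_mem (hcinv d hd0)
  let s := a⁻¹ * s₀
  let P := Polynomial.C a⁻¹ * P₀
  have hs : IsPoly φ s P := by
    show φ (a⁻¹ * s₀) = _
    rw [map_mul, haF, hs₀, map_mul, RatFunc.algebraMap_C]
  have hPd : P.natDegree = d := by rw [Polynomial.natDegree_C_mul (inv_ne_zero ha0), hP₀d]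
  have hPm : P.Monic := by
    show P.leadingCoeff = 1
    rw [Polynomial.leadingCoeff, hPd, Polynomial.coeff_C_mul]
    exact inv_mul_cancel₀ ha0
  let A := P - Polynomial.C s
  have hAd : A.natDegree = d := by rw [Polynomial.natDegree_sub_C, hPd]
  have hAm : A.Monic := hPm.sub_of_left (by
    refine lt_of_le_of_lt Polynomial.degree_C_le ?_
    rw [Polynomial.degree_eq_natDegree hPm.ne_zero, hPd]
    exact_mod_cast hd0)
  have hA0 : A.coeff 0 = 0 := by
    show (P - Polynomial.C s).coeff 0 = 0
    rw [Polynomial.coeff_sub, Polynomial.coeff_C_zero, hP0 hs, sub_self]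
  have hAF : ∀ i, A.coeff i ∈ F := by
    intro i
    rcases Nat.eq_zero_or_pos i with rfl | hi
    · rw [hA0]; exact zero_mem F
    · show (P - Polynomial.C s).coeff i ∈ F
      rw [Polynomial.coeff_sub, Polynomial.coeff_C, if_neg hi.ne', sub_zero, Polynomial.coeff_C_mul]
      exact mul_mem (F.inv_mem (hcinv d hd0)) (hcinv i hi)
  let A' : (RatFunc L)[X] := A.map (RatFunc.C : L →+* RatFunc L)
  have hAφ : A.map φ.toRingHom = A' := by
    ext i
    rw [Polynomial.coeff_map, Polynomial.coeff_map]
    exact hAF i
  let c : RatFunc L := algebraMap L[X] (RatFunc L) A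
  have hadd : substPoly w A = A' + Polynomial.C c := by
    have h := hcomp hs
    have hPA : P = Polynomial.C s + A := by simp [A]
    have hCs : ∀ r, substPoly w (Polynomial.C r) = Polynomial.C (RatFunc.C r) := fun r => by
      rw [substPoly_apply, Polynomial.map_C, Polynomial.C_comp]
    rw [hPA, Polynomial.map_add, Polynomial.map_C, hAφ, map_add, hCs] at h
    have hφs : φ.toRingHom s = RatFunc.C s + c := by
      show φ s = _
      rw [show φ s = algebraMap L[X] (RatFunc L) P from hs, hPA, map_add, RatFunc.algebraMap_C]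
    rw [hφs, map_add] at h
    linear_combination -h
  have hgenF : ∀ n (g : L) (Q : L[X]), IsPoly φ g Q → Q.natDegree ≤ n →
      g ∈ (IntermediateField.adjoin F {s}).restrictScalars K := by
    intro n
    induction n using Nat.strong_induction_on with
    | _ n ih =>
      intro g Q hg hQn
      rcases lt_or_ge Q.natDegree d with hlt | hge
      · exact (IntermediateField.adjoin F {s}).algebraMap_mem ⟨g, hlow hg hlt⟩
      obtain ⟨k, hk, hk'⟩ : ∃ k, d * k ≤ Q.natDegree ∧ Q.natDegree < d * k + d :=
        ⟨Q.natDegree / d, Nat.mul_div_le _ _, by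
          have := Nat.lt_mul_div_succ Q.natDegree hd0
          rwa [Nat.mul_succ] at this⟩
      have hk0 : 0 < k := by
        rcases Nat.eq_zero_or_pos k with rfl | h
        · omega
        · exact h
      have hAkm : (A ^ k).Monic := hAm.pow k
      have hAkd : (A ^ k).natDegree = d * k := by rw [hAm.natDegree_pow, hAd, mul_comm]
      let q := Q /ₘ (A ^ k)
      let r := Q %ₘ (A ^ k)
      have hQ : r + A ^ k * q = Q := Polynomial.modByMonic_add_div Q _
      have hqd : q.natDegree = Q.natDegree - d * k := by rw [Polynomial.natDegree_divByMonic Q hAkm, hAkd]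
      have hrd : r.natDegree < d * k := by
        rw [← hAkd]
        refine Polynomial.natDegree_modByMonic_lt Q hAkm fun h1 => ?_
        have := congrArg Polynomial.natDegree h1
        rw [hAkd, Polynomial.natDegree_one] at this
        exact absurd this (Nat.mul_pos hd0 hk0).ne'
      -- the top coefficient is invariant
      have hA'm : (A' ^ k).Monic := (hAm.map _).pow k
      have hA'd : (A' ^ k).degree = ((d * k : ℕ) : WithBot ℕ) := by
        rw [Polynomial.degree_eq_natDegree hA'm.ne_zero, (hAm.map (RatFunc.C : L →+* RatFunc L)).natDegree_pow,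
          Polynomial.natDegree_map, hAd, mul_comm]
      have hqφ : q.map φ.toRingHom = substPoly w q := by
        have h1 := hcomp hg
        rw [← hQ] at h1
        simp only [Polynomial.map_add, Polynomial.map_mul, Polynomial.map_pow, hAφ, map_add, map_mul, map_pow, hadd] at h1
        let D := (A' + Polynomial.C c) ^ k - A' ^ k
        have hA'n : A'.natDegree = d := by rw [Polynomial.natDegree_map, hAd]
        have hD : D.natDegree ≤ d * (k - 1) := by
          show ((A' + Polynomial.C c) ^ k - A' ^ k).natDegree ≤ _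
          rw [← geom_sum₂_mul, add_sub_cancel_left]
          refine (Polynomial.natDegree_mul_C_le _ _).trans (Polynomial.natDegree_sum_le_of_forall_le _ _ fun i hi => ?_)
          refine Polynomial.natDegree_mul_le.trans ?_
          have e1 : ((A' + Polynomial.C c) ^ i).natDegree ≤ d * i := by
            refine Polynomial.natDegree_pow_le.trans ?_
            rw [Polynomial.natDegree_add_C, hA'n, mul_comm]
          have e2 : (A' ^ (k - 1 - i)).natDegree ≤ d * (k - 1 - i) := by
            refine Polynomial.natDegree_pow_le.trans ?_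
            rw [hA'n, mul_comm]
          have hik : i + (k - 1 - i) = k - 1 := by
            have := Finset.mem_range.1 hi
            omega
          calc _ ≤ d * i + d * (k - 1 - i) := add_le_add e1 e2
            _ = d * (k - 1) := by rw [← mul_add, hik]
        let w' : (RatFunc L)[X] := substPoly w r + D * substPoly w q
        have hwd : ∀ x : L[X], (substPoly w x).natDegree ≤ x.natDegree := fun x => by
          rw [substPoly_apply, Polynomial.natDegree_comp, Polynomial.natDegree_map, Polynomial.natDegree_X_add_C, mul_one]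
        have hw' : w'.natDegree < d * k := by
          refine lt_of_le_of_lt (Polynomial.natDegree_add_le _ _) (max_lt (lt_of_le_of_lt (hwd r) hrd) ?_)
          refine lt_of_le_of_lt (Polynomial.natDegree_mul_le.trans (add_le_add hD (hwd q))) ?_
          have : d * (k - 1) + d = d * k := by
            rw [← Nat.mul_succ]; congr 1; omega
          omega
        have hlt : ∀ x : (RatFunc L)[X], x.natDegree < d * k → x.degree < (A' ^ k).degree := fun x hx => by
          rw [hA'd]
          exact lt_of_le_of_lt Polynomial.degree_le_natDegree (by exact_mod_cast hx)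
        have u1 := Polynomial.div_modByMonic_unique (f := Q.map φ.toRingHom) (q.map φ.toRingHom) (r.map φ.toRingHom) hA'm
          ⟨by rw [← hQ]; simp only [Polynomial.map_add, Polynomial.map_mul, Polynomial.map_pow, hAφ, A'],
            hlt _ (by rw [Polynomial.natDegree_map]; exact hrd)⟩
        have u2 := Polynomial.div_modByMonic_unique (f := Q.map φ.toRingHom) (substPoly w q) w' hA'm
          ⟨by
            rw [← hQ]
            simp only [Polynomial.map_add, Polynomial.map_mul, Polynomial.map_pow, hAφ]
            simp only [w', D]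
            linear_combination -h1, hlt _ hw'⟩
        exact u1.1.symm.trans u2.1
      have hq0 : IsPoly φ (q.coeff 0) (Polynomial.hasseDeriv 0 q) := by
        have := congrArg (fun x : (RatFunc L)[X] => x.coeff 0) hqφ
        simp only [Polynomial.coe_mapRingHom, Polynomial.coeff_map, w, T, substPoly_add_coeff] at this
        exact this
      rw [Polynomial.hasseDeriv_zero'] at hq0
      have hqF : q.coeff 0 ∈ F := hlow hq0 (by omega)
      have hqC : q = Polynomial.C (q.coeff 0) := by
        refine RatFunc.algebraMap_injective L ?_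
        rw [RatFunc.algebraMap_C]
        exact hq0.symm.trans hqF
      let h := q.coeff 0
      have hg' : IsPoly φ (g - h * s ^ k) (Q - Polynomial.C h * P ^ k) := by
        show φ _ = _
        have hφs : φ (a⁻¹ * s₀) = algebraMap L[X] (RatFunc L) P := hs
        simp only [map_sub, map_mul] at hφs ⊢
        simp only [map_pow, map_mul, s, show φ g = _ from hg, show φ h = RatFunc.C h from hqF, RatFunc.algebraMap_C]
        rw [hφs]
      have hn0 : Q.natDegree = d * k := by
        have := congrArg Polynomial.natDegree hqC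
        rw [Polynomial.natDegree_C, hqd] at this
        omega
      have hdrop : (Q - Polynomial.C h * P ^ k).natDegree < n := by
        refine lt_of_lt_of_le ?_ hQn
        rw [hn0]
        have hcf : (Q - Polynomial.C h * P ^ k).coeff (d * k) = 0 := by
          rw [Polynomial.coeff_sub, Polynomial.coeff_C_mul]
          have hP1 : (P ^ k).coeff (d * k) = 1 := by
            have := (hPm.pow k).coeff_natDegree
            rwa [hPm.natDegree_pow, hPd, mul_comm k d] at this
          have hQ1 : Q.coeff (d * k) = h := by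
            have hA1 : (A ^ k).coeff (d * k) = 1 := by
              have := hAkm.coeff_natDegree
              rwa [hAkd] at this
            have hk1 : ∀ x : L, (A ^ k * Polynomial.C x).coeff (d * k) = x := fun x => by
              rw [Polynomial.coeff_mul_C, hA1, one_mul]
            rw [← hQ, Polynomial.coeff_add, Polynomial.coeff_eq_zero_of_natDegree_lt hrd, zero_add, hqC]
            exact hk1 _
          rw [hP1, hQ1, mul_one, sub_self]
        have hle : (Q - Polynomial.C h * P ^ k).natDegree ≤ d * k :=
          (Polynomial.natDegree_sub_le _ _).trans (max_le hn0.le ((Polynomial.natDegree_C_mul_le _ _).trans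
            (by rw [hPm.natDegree_pow, hPd, mul_comm])))
        have hpos : 0 < d * k := Nat.mul_pos hd0 hk0
        refine Nat.lt_of_le_sub_one hpos (Polynomial.natDegree_le_iff_coeff_eq_zero.2 fun i hi => ?_)
        rcases (show d * k ≤ i by omega).eq_or_lt with rfl | hi'
        · exact hcf
        · exact Polynomial.coeff_eq_zero_of_natDegree_lt (lt_of_le_of_lt hle hi')
      have hrec := ih _ hdrop _ _ hg' le_rfl
      have hhs : h * s ^ k ∈ (IntermediateField.adjoin F {s}).restrictScalars K :=
        mul_mem ((IntermediateField.adjoin F {s}).algebraMap_mem ⟨h, hqF⟩)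
          (pow_mem (IntermediateField.mem_adjoin_simple_self F s) k)
      simpa using add_mem hrec hhs
  refine ⟨F, s, transcendental_of_image φ F (fun x hx => hx) ?_, ?_⟩
  · rw [show φ s = algebraMap L[X] (RatFunc L) P from hs]
    intro halg
    refine RatFunc.transcendental_X (K := L) ?_
    have : Transcendental L (algebraMap L[X] (RatFunc L) P) := by
      rw [transcendental_iff]
      intro p hp
      rw [Polynomial.aeval_def, IsScalarTower.algebraMap_eq L L[X] (RatFunc L), ← Polynomial.hom_eval₂,
        map_eq_zero_iff _ (RatFunc.algebraMap_injective L)] at hp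
      exact Polynomial.comp_eq_zero_iff.1 hp |>.resolve_right fun ⟨_, h2⟩ => by
        have := congrArg Polynomial.natDegree h2
        rw [hPd, Polynomial.natDegree_C] at this
        omega
    exact absurd halg this
  · exact eq_top_iff.2 fun f _ => hmem _ (fun g Q hg => hgenF _ g Q hg le_rfl) f

end

end Groth.Agent.RatSlice
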