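import Groth.Agent.RatSlice.Action
import Groth.Agent.RatSlice.FieldModel
import Groth.Agent.VarDim.Local
import Groth.Agent.S7629
import Mathlib.AlgebraicGeometry.AffineSpace

/-!
Actions of one-dimensional split groups make a variety birational to a product with the affine line.
-/

universe u

open CategoryTheory Limits MonoidalCategory CartesianMonoidalCategory MonObj AlgebraicGeometry Polynomial
open Groth.Agent.GrpSchLib

set_option linter.style.haveILetI false
set_option backward.isDefEq.respectTransparency false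
set_option backward.isDefEq.respectTransparency.types false

attribute [-instance] ULift.module ULift.module'

namespace Groth.Agent.RatSlice

noncomputable section

variable {K : Type u} [Field K] {G X : Over (Spec (CommRingCat.of K))} [GrpObj G]

/-- A scalar as a global function on the spectrum. -/
abbrev fnOf (R : Type u) [CommRing R] [Algebra K R] (v : R) : Γ((sp K R).left, ⊤) :=
  (Scheme.ΓSpecIso (CommRingCat.of R)).inv v

theorem spMap_fnOf {A B : Type u} [CommRing A] [CommRing B] [Algebra K A] [Algebra K B] (f : A →ₐ[K] B) (v : A) :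
    (spMap f).left.appTop (fnOf (K := K) A v) = fnOf (K := K) B (f v) :=
  (congr($(Scheme.ΓSpecIso_inv_naturality (CommRingCat.ofHom f.toRingHom)).hom v)).symm

/-- Coordinates are transported by isomorphisms of groups. -/
def Coord.transport {H : Over (Spec (CommRingCat.of K))} [GrpObj H] (D : Coord H) (e : Grp.mk G ≅ Grp.mk H) :
    Coord G where
  e := D.e
  op := D.op
  adm := D.adm
  pt v h := D.pt v h ≫ e.inv.hom.hom
  adm_map := D.adm_map
  adm_op := D.adm_op
  adm_e := D.adm_e
  map_e := D.map_e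
  map_op := D.map_op
  pt_map f v h := by rw [← Category.assoc, D.pt_map]
  pt_op v w h h' := by
    haveI : IsMonHom e.inv.hom.hom := e.inv.hom.isMonHom_hom
    rw [← MonObj.mul_comp, D.pt_op]
  pt_e R _ _ := by
    haveI : IsMonHom e.inv.hom.hom := e.inv.hom.isMonHom_hom
    rw [D.pt_e]; exact MonObj.one_comp _
  pt_surj x := by
    obtain ⟨v, h, hv⟩ := D.pt_surj (x ≫ e.hom.hom.hom)
    refine ⟨v, h, ?_⟩
    have h' : e.hom.hom.hom ≫ e.inv.hom.hom = 𝟙 G := congr($(e.hom_inv_id).hom.hom)
    rw [hv, Category.assoc, h', Category.comp_id]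

/-- The coordinate on the additive group. -/
def coordGa : Coord (Red.Ga (Spec (CommRingCat.of K))) where
  e _ _ := 0
  op v w := v + w
  adm _ := True
  pt {R} _ _ v _ := GaPts.ptOfFn (fnOf (K := K) R v)
  adm_map _ _ _ := trivial
  adm_op _ _ := trivial
  adm_e _ _ := trivial
  map_e f := map_zero f
  map_op f v w := map_add f v w
  pt_map f v _ := by
    refine GaPts.gaFn_injective ?_
    show Red.gaFn _ = Red.gaFn _
    rw [GaPts.gaFn_comp, GaPts.gaFn_ptOfFn, GaPts.gaFn_ptOfFn, spMap_fnOf]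
  pt_op v w _ _ := by
    refine GaPts.gaFn_injective ?_
    show Red.gaFn _ = Red.gaFn _
    rw [GaPts.gaFn_mul, GaPts.gaFn_ptOfFn, GaPts.gaFn_ptOfFn, GaPts.gaFn_ptOfFn]
    exact (map_add _ v w).symm
  pt_e R _ _ := GaPts.gaFn_injective (by
    show Red.gaFn _ = Red.gaFn _
    rw [GaPts.gaFn_ptOfFn, GaPts.gaFn_one]; exact map_zero _)
  pt_surj {R} _ _ x := by
    refine ⟨(Scheme.ΓSpecIso (CommRingCat.of R)).hom (Red.gaFn x), trivial, GaPts.gaFn_injective ?_⟩
    show Red.gaFn _ = Red.gaFn _
    rw [GaPts.gaFn_ptOfFn]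
    exact congr($((Scheme.ΓSpecIso (CommRingCat.of R)).hom_inv_id).hom (Red.gaFn x))

/-- The unit function of a unit. -/
def unitFn (R : Type u) [CommRing R] [Algebra K R] {v : R} (h : IsUnit v) : (Γ((sp K R).left, ⊤))ˣ :=
  (h.map (Scheme.ΓSpecIso (CommRingCat.of R)).inv.hom).unit

/-- The coordinate on the multiplicative group. -/
def coordGm : Coord (Red.Gm (Spec (CommRingCat.of K))) where
  e _ _ := 1
  op v w := v * w
  adm v := IsUnit v
  pt {R} _ _ v h := GmPts.ptOfUnit (unitFn (K := K) R h)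
  adm_map f _ h := h.map f
  adm_op h h' := h.mul h'
  adm_e _ _ := isUnit_one
  map_e f := map_one f
  map_op f v w := map_mul f v w
  pt_map f v _ := by
    refine GmPts.gmFn_injective ?_
    show Red.gmFn _ = Red.gmFn _
    rw [GmPts.gmFn_comp, GmPts.gmFn_ptOfUnit, GmPts.gmFn_ptOfUnit]
    exact spMap_fnOf f v
  pt_op v w _ _ := by
    refine GmPts.gmFn_injective ?_
    show Red.gmFn _ = Red.gmFn _
    rw [GmPts.gmFn_mul, GmPts.gmFn_ptOfUnit, GmPts.gmFn_ptOfUnit, GmPts.gmFn_ptOfUnit]
    exact (map_mul _ v w).symm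
  pt_e R _ _ := GmPts.gmFn_injective (by
    show Red.gmFn _ = Red.gmFn _
    rw [GmPts.gmFn_ptOfUnit, GmPts.gmFn_one]; exact map_one _)
  pt_surj {R} _ _ x := by
    refine ⟨(Scheme.ΓSpecIso (CommRingCat.of R)).hom (Red.gmFn x),
      (GmPts.isUnit_gmFn x).map (Scheme.ΓSpecIso (CommRingCat.of R)).hom.hom, GmPts.gmFn_injective ?_⟩
    show Red.gmFn _ = Red.gmFn _
    rw [GmPts.gmFn_ptOfUnit]
    exact congr($((Scheme.ΓSpecIso (CommRingCat.of R)).hom_inv_id).hom (Red.gmFn x))

/-- The algebra of an affine open. -/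
abbrev opensAlg {T : Over (Spec (CommRingCat.of K))} {W : T.left.Opens} (hW : IsAffineOpen W) : Algebra K Γ(T.left, W) :=
  (Spec.preimage (hW.fromSpec ≫ T.hom)).hom.toAlgebra

variable [IsIntegral X.left] [Algebra K X.left.functionField]
  (hK : CommRingCat.ofHom (algebraMap K X.left.functionField) = DivModel.σ X.hom (genericPoint X.left))

include hK

theorem germ_algebraMap {U : X.left.Opens} (hU : IsAffineOpen U) (hg : genericPoint X.left ∈ U) :
    letI := opensAlg hU
    ∀ r : K, X.left.presheaf.germ U (genericPoint X.left) hg (algebraMap K Γ(X.left, U) r) =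
      algebraMap K X.left.functionField r := by
  intro r
  have h : Spec.preimage (hU.fromSpec ≫ X.hom) ≫ X.left.presheaf.germ U (genericPoint X.left) hg =
      CommRingCat.ofHom (algebraMap K X.left.functionField) := by
    apply Spec.map_injective
    rw [hK, Spec.map_comp, Spec.map_preimage, DivModel.specMap_σ, ← hU.fromSpecStalk_eq_fromSpecStalk hg,
      IsAffineOpen.fromSpecStalk, Category.assoc]
  exact congr($(h).hom r)

theorem act_eq_snd [IsSeparated X.hom] (a : AlgGrp.Action G X) (C : Coord G) (m : ℕ)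
    (hm : ∀ (R : Type u) [CommRing R] (v : R), C.adm v ↔ IsUnit (v ^ m))
    (hX : C.adm (RatFunc.X : RatFunc X.left.functionField))
    (h : spMap (IsScalarTower.toAlgHom K X.left.functionField (RatFunc X.left.functionField)) ≫ gen hK =
      lift (C.pt RatFunc.X hX)
        (spMap (IsScalarTower.toAlgHom K X.left.functionField (RatFunc X.left.functionField)) ≫ gen hK) ≫ a.act) :
    a.act = snd G X := by
  let L := X.left.functionField
  haveI : X.left.IsSeparated := ⟨by rw [← Limits.terminal.comp_from X.hom]; infer_instance⟩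
  ext1
  refine Scheme.hom_ext_of_forall _ _ fun p => ?_
  obtain ⟨U, hU, hpU, -⟩ := exists_isAffineOpen_mem_and_subset (x := (snd G X).left p) (U := ⊤) trivial
  obtain ⟨W, hW, hpW, hWU⟩ := exists_isAffineOpen_mem_and_subset (x := p) (U := (snd G X).left ⁻¹ᵁ U) hpU
  refine ⟨W, hpW, ?_⟩
  suffices hs : hW.fromSpec ≫ a.act.left = hW.fromSpec ≫ (snd G X).left by
    show W.ι ≫ _ = W.ι ≫ _
    rw [← cancel_epi hW.isoSpec.inv, ← Category.assoc, ← Category.assoc, hW.isoSpec_inv_ι]
    exact hs
  have hp : p ∈ W := hpW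
  haveI : Nonempty U := ⟨⟨_, hWU hp⟩⟩
  have hg : genericPoint X.left ∈ U :=
    (genericPoint_specializes ((snd G X).left p)).mem_open U.2 (hWU hp)
  letI := opensAlg hW
  letI := opensAlg hU
  let B := Γ(X.left, U)
  let C' := Γ((G ⊗ X).left, W)
  let P : sp K C' ⟶ G ⊗ X := Over.homMk hW.fromSpec (Spec.map_preimage _).symm
  obtain ⟨c, hc, hcP⟩ := C.pt_surj (P ≫ fst G X)
  let ρ₀ : B ⟶ C' := (snd G X).left.appLE U W hWU
  have hρ₀ : Spec.map ρ₀ ≫ hU.fromSpec = hW.fromSpec ≫ (snd G X).left :=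
    IsAffineOpen.SpecMap_appLE_fromSpec _ hU hW hWU
  let ρ : B →ₐ[K] C' := ⟨ρ₀.hom, fun r => by
    have e : Spec.preimage (hU.fromSpec ≫ X.hom) ≫ ρ₀ = Spec.preimage (hW.fromSpec ≫ (G ⊗ X).hom) := by
      apply Spec.map_injective
      rw [Spec.map_comp, Spec.map_preimage, Spec.map_preimage, reassoc_of% hρ₀, Over.w (snd G X)]
    exact congr($(e).hom r)⟩
  let xU : sp K B ⟶ X := Over.homMk hU.fromSpec (Spec.map_preimage _).symm
  have hxP : P ≫ snd G X = spMap ρ ≫ xU := by
    ext1
    exact hρ₀.symm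
  suffices hs : P ≫ a.act = P ≫ snd G X from congr($(hs).left)
  have hPl : P = lift (C.pt c hc) (spMap ρ ≫ xU) := by
    rw [← hxP, hcP]
    ext <;> simp
  -- the universal point
  let R₀ := Localization.Away ((Polynomial.X : B[X]) ^ m)
  let gB : B →ₐ[K] L := ⟨(X.left.presheaf.germ U (genericPoint X.left) hg).hom, germ_algebraMap hK hU hg⟩
  have hgB : spMap gB ≫ xU = gen hK := by
    ext1
    exact hU.fromSpecStalk_eq_fromSpecStalk hg
  have hgBi : Function.Injective gB := germ_injective_of_isIntegral X.left (genericPoint X.left) hg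
  let X₀ : R₀ := algebraMap B[X] R₀ Polynomial.X
  have hX₀ : C.adm X₀ := (hm _ _).2 (by
    rw [← map_pow]; exact IsLocalization.Away.algebraMap_isUnit _)
  let jB : B →ₐ[K] R₀ := (IsScalarTower.toAlgHom K B[X] R₀).comp (IsScalarTower.toAlgHom K B B[X])
  let jpoly : B[X] →ₐ[K] RatFunc L := (IsScalarTower.toAlgHom K L[X] (RatFunc L)).comp (Polynomial.mapAlgHom gB)
  have hjpoly : Function.Injective jpoly :=
    (RatFunc.algebraMap_injective L).comp (Polynomial.map_injective _ hgBi)
  let j : R₀ →ₐ[K] RatFunc L := IsLocalization.liftAlgHom (M := Submonoid.powers ((Polynomial.X : B[X]) ^ m))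
    (f := jpoly) fun q => Ne.isUnit fun h0 => by
      obtain ⟨_, n, rfl⟩ := q
      rw [← map_zero jpoly] at h0
      exact pow_ne_zero n (pow_ne_zero m Polynomial.X_ne_zero) (hjpoly h0)
  have hjalg : ∀ q : B[X], j (algebraMap B[X] R₀ q) = jpoly q := fun q => by
    show IsLocalization.liftAlgHom _ _ = _
    rw [IsLocalization.liftAlgHom_apply, IsLocalization.lift_eq]
    rfl
  have hj : Function.Injective j := by
    intro x y hxy
    obtain ⟨⟨x', s⟩, hx⟩ := IsLocalization.surj (Submonoid.powers ((Polynomial.X : B[X]) ^ m)) x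
    obtain ⟨⟨y', t⟩, hy⟩ := IsLocalization.surj (Submonoid.powers ((Polynomial.X : B[X]) ^ m)) y
    have h1 := congrArg j hx
    have h2 := congrArg j hy
    rw [map_mul, hjalg, hjalg] at h1 h2
    rw [hxy] at h1
    have h3 : x' * t = y' * s := hjpoly (by rw [map_mul, map_mul, ← h1, ← h2]; ring)
    have hs := (IsLocalization.map_units R₀ s)
    have ht := (IsLocalization.map_units R₀ t)
    apply (hs.mul ht).mul_left_injective
    have h4 : algebraMap B[X] R₀ x' * algebraMap B[X] R₀ t = algebraMap B[X] R₀ y' * algebraMap B[X] R₀ s := by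
      rw [← map_mul, h3, map_mul]
    dsimp only at hx hy ⊢
    linear_combination (algebraMap B[X] R₀ t.1) * hx - (algebraMap B[X] R₀ s.1) * hy + h4
  haveI : IsDomain R₀ := hj.isDomain
  have hzero : lift (C.pt X₀ hX₀) (spMap jB ≫ xU) ≫ a.act = spMap jB ≫ xU := by
    ext1
    haveI : IsDominant (spMap j).left := by
      refine ⟨PrimeSpectrum.denseRange_comap_iff_ker_le_nilRadical _ |>.2 ?_⟩
      rw [show RingHom.ker (CommRingCat.ofHom j.toRingHom).hom = ⊥ from (RingHom.injective_iff_ker_eq_bot _).1 hj]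
      exact bot_le
    haveI : IsReduced (sp K R₀).left := inferInstanceAs (IsReduced (Spec (CommRingCat.of R₀)))
    refine ext_of_isDominant (spMap j).left ?_
    show (spMap j ≫ lift _ _ ≫ a.act).left = (spMap j ≫ spMap jB ≫ xU).left
    congr 1
    have e1 : j X₀ = (RatFunc.X : RatFunc L) := by
      rw [hjalg]
      show algebraMap L[X] (RatFunc L) (Polynomial.map gB.toRingHom Polynomial.X) = _
      rw [Polynomial.map_X, RatFunc.algebraMap_X]
    have e2 : j.comp jB = (IsScalarTower.toAlgHom K L (RatFunc L)).comp gB := AlgHom.ext fun b => by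
      show j (algebraMap B[X] R₀ (algebraMap B B[X] b)) = algebraMap L (RatFunc L) (gB b)
      rw [hjalg, Polynomial.algebraMap_apply, IsScalarTower.algebraMap_apply L L[X] (RatFunc L)]
      show algebraMap L[X] (RatFunc L) (Polynomial.map gB.toRingHom (Polynomial.C b)) = _
      rw [Polynomial.map_C]
      rfl
    rw [comp_lift_assoc, C.pt_map, ← Category.assoc, ← spMap_comp, e2, spMap_comp, Category.assoc, hgB]
    simp only [e1]
    exact h.symm
  -- specialisation
  let ev : B[X] →ₐ[K] C' := { Polynomial.eval₂RingHom ρ.toRingHom c with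
    commutes' := fun r => by
      show Polynomial.eval₂ ρ.toRingHom c (algebraMap K B[X] r) = _
      rw [Polynomial.algebraMap_apply, Polynomial.eval₂_C]
      exact ρ.commutes r }
  have hevX : ev Polynomial.X = c := Polynomial.eval₂_X _ _
  let sc : R₀ →ₐ[K] C' := IsLocalization.liftAlgHom (M := Submonoid.powers ((Polynomial.X : B[X]) ^ m)) (f := ev)
    fun q => by
      obtain ⟨_, n, rfl⟩ := q
      show IsUnit (ev (((Polynomial.X : B[X]) ^ m) ^ n))
      rw [map_pow, map_pow, hevX]
      exact ((hm _ _).1 hc).pow n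
  have hscalg : ∀ q : B[X], sc (algebraMap B[X] R₀ q) = ev q := fun q => by
    show IsLocalization.liftAlgHom _ _ = _
    rw [IsLocalization.liftAlgHom_apply, IsLocalization.lift_eq]
    rfl
  have e3 : sc X₀ = c := (hscalg _).trans hevX
  have e4 : sc.comp jB = ρ := AlgHom.ext fun b => by
    show sc (algebraMap B[X] R₀ (algebraMap B B[X] b)) = _
    rw [hscalg, Polynomial.algebraMap_apply]
    exact Polynomial.eval₂_C _ _
  have h5 := congrArg (fun z => spMap sc ≫ z) hzero
  simp only [comp_lift_assoc, C.pt_map] at h5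
  rw [← Category.assoc, ← spMap_comp, e4] at h5
  simp only [e3] at h5
  rw [hPl, lift_snd]
  exact h5

set_option maxHeartbeats 1600000 in
theorem birational_of_equiv [LocallyOfFiniteType X.hom] [QuasiCompact X.hom] [IsSeparated X.hom]
    (B0 : Type u) [CommRing B0] [IsDomain B0] [Algebra K B0] [Algebra.FiniteType K B0]
    (hQ : Algebra.FiniteType K (MvPolynomial (ULift.{u} (Fin 1)) B0))
    (e₁ : FractionRing (MvPolynomial (ULift.{u} (Fin 1)) B0) ≃ₐ[K] X.left.functionField) :
    ∃ (Y : Over (Spec (CommRingCat.of K))) (_ : IsIntegral Y.left) (_ : LocallyOfFiniteType Y.hom)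
      (U : X.left.Opens) (V : (𝔸(ULift.{u} (Fin 1); Y.left)).Opens), (U : Set X.left).Nonempty ∧
      Nonempty (Over.mk (U.ι ≫ X.hom) ≅
        Over.mk (V.ι ≫ (𝔸(ULift.{u} (Fin 1); Y.left) ↘ Y.left) ≫ Y.hom)) := by
  let n := ULift.{u} (Fin 1)
  let Q := MvPolynomial n B0
  let L : Type u := X.left.functionField
  let Z : Scheme.{u} := Spec (CommRingCat.of Q)
  haveI : IsDomain (CommRingCat.of Q) := inferInstanceAs (IsDomain Q)
  let sZ : Z ⟶ Spec (CommRingCat.of K) := Spec.map (CommRingCat.ofHom (algebraMap K Q))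
  haveI : LocallyOfFiniteType sZ := by
    rw [HasRingHomProperty.Spec_iff (P := @LocallyOfFiniteType)]
    exact RingHom.finiteType_algebraMap.2 inferInstance
  letI : X.left.Over (Spec (CommRingCat.of K)) := ⟨X.hom⟩
  letI : Z.Over (Spec (CommRingCat.of K)) := ⟨sZ⟩
  haveI : IsSeparated (X.left ↘ Spec (CommRingCat.of K)) := ‹IsSeparated X.hom›
  haveI : LocallyOfFiniteType (X.left ↘ Spec (CommRingCat.of K)) := ‹LocallyOfFiniteType X.hom›
  haveI : QuasiCompact (X.left ↘ Spec (CommRingCat.of K)) := ‹QuasiCompact X.hom›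
  haveI : IsSeparated (Z ↘ Spec (CommRingCat.of K)) := inferInstanceAs (IsSeparated sZ)
  haveI : LocallyOfFiniteType (Z ↘ Spec (CommRingCat.of K)) := ‹LocallyOfFiniteType sZ›
  haveI : QuasiCompact (Z ↘ Spec (CommRingCat.of K)) := inferInstanceAs (QuasiCompact sZ)
  letI : Algebra Q (Z.functionField) := instAlgebraCarrierFunctionFieldSpec (CommRingCat.of Q)
  haveI : IsFractionRing Q Z.functionField := functionField_isFractionRing_of_affine (CommRingCat.of Q)
  let e₂ : FractionRing Q ≃ₐ[Q] Z.functionField := FractionRing.algEquiv Q Z.functionField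
  let ee : X.left.functionField ≅ Z.functionField := (e₁.symm.toRingEquiv.trans e₂.toRingEquiv).toCommRingCatIso
  have hZσ : CommRingCat.ofHom (Curv2.stalkMap K Z (genericPoint Z)) =
      CommRingCat.ofHom (algebraMap K Q) ≫ CommRingCat.ofHom (algebraMap Q Z.functionField) := by
    apply Spec.map_injective
    refine (DivModel.specMap_σ sZ (genericPoint Z)).trans ?_
    rw [Spec.map_comp, Scheme.Spec_fromSpecStalk]
    rfl
  obtain ⟨U, V, hUne, φ, hφ⟩ := Groth.Agent.S7629.result K X.left Z ee (by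
    refine RingHom.ext fun c => ?_
    have hL : Curv2.stalkMap K X.left (genericPoint X.left) c = algebraMap K L c :=
      (congr($(hK).hom c)).symm
    show e₂ (e₁.symm (Curv2.stalkMap K X.left (genericPoint X.left) c)) = _
    rw [hL, AlgEquiv.commutes, IsScalarTower.algebraMap_apply K Q (FractionRing Q), AlgEquiv.commutes]
    exact (congr($(hZσ).hom c)).symm)
  let Y : Over (Spec (CommRingCat.of K)) := Over.mk (Spec.map (CommRingCat.ofHom (algebraMap K B0)))
  haveI : IsIntegral Y.left := inferInstanceAs (IsIntegral (Spec (CommRingCat.of B0)))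
  haveI : LocallyOfFiniteType Y.hom := by
    show LocallyOfFiniteType (Spec.map _)
    rw [HasRingHomProperty.Spec_iff (P := @LocallyOfFiniteType)]
    exact RingHom.finiteType_algebraMap.2 inferInstance
  let ι' : 𝔸(n; Spec (CommRingCat.of B0)) ≅ Z := AffineSpace.SpecIso n (CommRingCat.of B0)
  have hι' : ι'.hom ≫ sZ = (𝔸(n; Spec (CommRingCat.of B0)) ↘ Spec (CommRingCat.of B0)) ≫ Y.hom := by
    rw [← cancel_epi ι'.inv, Iso.inv_hom_id_assoc, ← Category.assoc]
    show sZ = (_ ≫ _) ≫ _
    rw [show ι'.inv ≫ (𝔸(n; Spec (CommRingCat.of B0)) ↘ Spec (CommRingCat.of B0)) = _ from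
      AffineSpace.SpecIso_inv_over (n := n) (CommRingCat.of B0)]
    show Spec.map _ = Spec.map _ ≫ Spec.map _
    rw [← Spec.map_comp]
    rfl
  let V' : (𝔸(n; Y.left)).Opens := ι'.hom ⁻¹ᵁ V
  refine ⟨Y, inferInstance, inferInstance, U, V', hUne, ⟨Over.isoMk (φ ≪≫ (asIso (ι'.hom ∣_ V)).symm) ?_⟩⟩
  show (φ.hom ≫ inv (ι'.hom ∣_ V)) ≫ V'.ι ≫ (𝔸(n; Y.left) ↘ Y.left) ≫ Y.hom = U.ι ≫ X.hom
  rw [show (𝔸(n; Y.left) ↘ Y.left) ≫ Y.hom = ι'.hom ≫ sZ from hι'.symm, ← morphismRestrict_ι_assoc,
    Category.assoc, IsIso.inv_hom_id_assoc]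
  exact hφ


set_option maxHeartbeats 1600000 in
theorem birational_of_slice [LocallyOfFiniteType X.hom] [QuasiCompact X.hom] [IsSeparated X.hom]
    (hsl : IsSlice (K := K) X.left.functionField) :
    ∃ (Y : Over (Spec (CommRingCat.of K))) (_ : IsIntegral Y.left) (_ : LocallyOfFiniteType Y.hom)
      (U : X.left.Opens) (V : (𝔸(ULift.{u} (Fin 1); Y.left)).Opens), (U : Set X.left).Nonempty ∧
      Nonempty (Over.mk (U.ι ≫ X.hom) ≅
        Over.mk (V.ι ≫ (𝔸(ULift.{u} (Fin 1); Y.left) ↘ Y.left) ≫ Y.hom)) := by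
  classical
  let L := X.left.functionField
  -- generators of the function field
  obtain ⟨U₀, hU₀, hgU, -⟩ := exists_isAffineOpen_mem_and_subset (x := genericPoint X.left) (U := ⊤) trivial
  haveI : Nonempty U₀ := ⟨⟨_, hgU⟩⟩
  letI := opensAlg hU₀
  haveI hft : Algebra.FiniteType K Γ(X.left, U₀) := by
    rw [← RingHom.finiteType_algebraMap]
    show (Spec.preimage (hU₀.fromSpec ≫ X.hom)).hom.FiniteType
    rw [← HasRingHomProperty.Spec_iff (P := @LocallyOfFiniteType), Spec.map_preimage]
    infer_instance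
  obtain ⟨gs, hgs⟩ := hft.out
  let gB : Γ(X.left, U₀) →ₐ[K] L := ⟨(X.left.presheaf.germ U₀ _ hgU).hom, germ_algebraMap hK hU₀ hgU⟩
  haveI := functionField_isFractionRing_of_isAffineOpen X.left U₀ hU₀
  have hfg : ∃ S : Finset L, IntermediateField.adjoin K (S : Set L) = ⊤ := by
    refine ⟨gs.image gB, top_le_iff.1 fun l _ => ?_⟩
    have hall : ∀ b, gB b ∈ IntermediateField.adjoin K ((gs.image gB : Finset L) : Set L) := fun b => by
      have : b ∈ (IntermediateField.adjoin K ((gs.image gB : Finset L) : Set L)).toSubalgebra.comap gB :=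
        (hgs ▸ Algebra.adjoin_le fun c hc => IntermediateField.subset_adjoin _ _ (by
          rw [Finset.coe_image]; exact ⟨c, hc, rfl⟩) : (⊤ : Subalgebra K _) ≤ _) trivial
      exact this
    obtain ⟨b, c, -, hbc⟩ := IsFractionRing.div_surjective (A := Γ(X.left, U₀)) l
    rw [← hbc]
    exact div_mem (hall b) (hall c)
  obtain ⟨B, _, _, _, _, hQ, ⟨e₁⟩⟩ := exists_model' hfg hsl
  exact birational_of_equiv hK B hQ e₁

omit hK
omit [Algebra K X.left.functionField]

theorem main [LocallyOfFiniteType X.hom] [QuasiCompact X.hom] [IsSeparated X.hom]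
    (hG : Nonempty (Grp.mk G ≅ Grp.mk (Red.Ga (Spec (CommRingCat.of K)))) ∨
      Nonempty (Grp.mk G ≅ Grp.mk (Red.Gm (Spec (CommRingCat.of K)))))
    (a : AlgGrp.Action G X) (ha : a.act ≠ snd G X) :
    ∃ (Y : Over (Spec (CommRingCat.of K))) (_ : IsIntegral Y.left) (_ : LocallyOfFiniteType Y.hom)
      (U : X.left.Opens) (V : (𝔸(ULift.{u} (Fin 1); Y.left)).Opens), (U : Set X.left).Nonempty ∧
      Nonempty (Over.mk (U.ι ≫ X.hom) ≅
        Over.mk (V.ι ≫ (𝔸(ULift.{u} (Fin 1); Y.left) ↘ Y.left) ≫ Y.hom)) := by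
  letI : Algebra K X.left.functionField := (DivModel.σ X.hom (genericPoint X.left)).hom.toAlgebra
  have hK : CommRingCat.ofHom (algebraMap K X.left.functionField) = DivModel.σ X.hom (genericPoint X.left) := rfl
  refine birational_of_slice hK ?_
  have hnt : ∀ φ : X.left.functionField →ₐ[K] RatFunc X.left.functionField, (∀ f, φ f = RatFunc.C f) →
      φ = IsScalarTower.toAlgHom K X.left.functionField (RatFunc X.left.functionField) := fun φ h =>
    AlgHom.ext fun f => by
      rw [h]
      exact congr($(RatFunc.algebraMap_eq_C (K := X.left.functionField)) f).symm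
  rcases hG with ⟨⟨e⟩⟩ | ⟨⟨e⟩⟩
  · let C := (coordGa (K := K)).transport e
    obtain ⟨φ, hco, hv, hgen⟩ := exists_coaction hK a C (fun _ _ _ _ => trivial) (fun _ _ _ _ => trivial)
      (Or.inr fun _ _ _ => trivial) (Polynomial.X + Polynomial.C RatFunc.X) (by
        rw [map_add, RatFunc.algebraMap_X, RatFunc.algebraMap_C]; rfl) ⟨0, by simp⟩
    refine exists_slice_add φ hco hv ?_
    by_contra hn
    push Not at hn
    rw [hnt φ hn] at hgen
    exact ha (act_eq_snd hK a C 0 (fun R _ v => ⟨fun _ => by simp, fun _ => trivial⟩) _ hgen)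
  · let C := (coordGm (K := K)).transport e
    obtain ⟨φ, hco, hv, hgen⟩ := exists_coaction hK a C (fun _ _ _ h => h.isUnit) (fun _ _ _ h => h)
      (Or.inl one_ne_zero) (Polynomial.C RatFunc.X * Polynomial.X) (by
        rw [map_mul, RatFunc.algebraMap_X, RatFunc.algebraMap_C]; exact mul_comm _ _) ⟨1, by simp⟩
    refine exists_slice_mul φ hco hv ?_
    by_contra hn
    push Not at hn
    rw [hnt φ hn] at hgen
    exact ha (act_eq_snd hK a C 1 (fun R _ v => by rw [pow_one]; rfl) _ hgen)

end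

end Groth.Agent.RatSlice
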